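import Mathlib

/-!
# Fields as fraction fields of smooth algebras
-/

namespace GrothLib.GenSmoothField

universe u v

variable (R : Type v) {K : Type u} [CommRing R] [Field K] [Algebra R K]

theorem isFractionRing_adjoin_of_closure {s : Set K} (hs : Subfield.closure s = ⊤) :
    IsFractionRing (Algebra.adjoin R s) K := by
  have key : ∀ x : K, ∃ a b : Algebra.adjoin R s, (b : K) ≠ 0 ∧ x * b = a := by
    intro x
    have hx : x ∈ Subfield.closure s := hs ▸ Subfield.mem_top x
    obtain ⟨a, ha, b, hb, rfl⟩ := Subfield.mem_closure_iff.1 hx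
    have hle : Subring.closure s ≤ (Algebra.adjoin R s).toSubring :=
      Subring.closure_le.2 Algebra.subset_adjoin
    by_cases hb0 : b = 0
    · exact ⟨0, 1, one_ne_zero, by simp [hb0]⟩
    · exact ⟨⟨a, hle ha⟩, ⟨b, hle hb⟩, hb0, div_mul_cancel₀ a hb0⟩
  rw [IsFractionRing, isLocalization_iff]
  refine ⟨?_, ?_, ?_⟩
  · rintro ⟨y, hy⟩
    exact IsUnit.mk0 _ (fun h => nonZeroDivisors.ne_zero hy (Subtype.ext h))
  · intro z
    obtain ⟨a, b, hb, hab⟩ := key z
    exact ⟨⟨a, ⟨b, mem_nonZeroDivisors_of_ne_zero fun h => hb (congrArg Subtype.val h)⟩⟩, hab⟩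
  · intro a b h
    exact ⟨1, by rw [show a = b from Subtype.ext h]⟩

/-- A field finitely generated as a field, and formally smooth over a Noetherian ring, is the
fraction field of a smooth subalgebra. -/
theorem exists_smooth_subalgebra [IsNoetherianRing R] (s : Finset K)
    (hs : Subfield.closure (s : Set K) = ⊤) (hK : Algebra.FormallySmooth R K) :
    ∃ A : Subalgebra R K, Algebra.FiniteType R A ∧ Algebra.Smooth R A ∧ IsFractionRing A K := by
  classical
  set A := Algebra.adjoin R (s : Set K) with hA
  haveI : Algebra.FiniteType R A := (Subalgebra.fg_iff_finiteType A).1 ⟨s, rfl⟩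
  haveI : Algebra.FinitePresentation R A := Algebra.FinitePresentation.of_finiteType.1 inferInstance
  haveI := isFractionRing_adjoin_of_closure R hs
  have hM : (⊥ : Ideal A).primeCompl = nonZeroDivisors A := by
    ext x
    simp [Ideal.primeCompl, mem_nonZeroDivisors_iff_ne_zero]
  haveI : IsLocalization.AtPrime K (⊥ : Ideal A) := by
    rw [IsLocalization.AtPrime, hM]
    infer_instance
  haveI := hK
  haveI : Algebra.IsSmoothAt R (⊥ : Ideal A) :=
    Algebra.FormallySmooth.of_equiv ((Localization.algEquiv (⊥ : Ideal A).primeCompl K).restrictScalars R).symm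
  obtain ⟨f, hf, hfs⟩ := Algebra.IsSmoothAt.exists_notMem_smooth (R := R) (⊥ : Ideal A)
  have hf0 : (f : K) ≠ 0 := fun h => hf (Subtype.ext h : f = 0)
  let φ : Localization.Away f →ₐ[R] K :=
    IsLocalization.liftAlgHom (M := Submonoid.powers f) (f := A.val) fun y => by
      obtain ⟨n, hn⟩ := y.2
      refine IsUnit.mk0 _ ?_
      rw [← hn, map_pow]
      exact pow_ne_zero _ hf0
  have hφ : Function.Injective φ := by
    rw [injective_iff_map_eq_zero]
    intro z hz
    obtain ⟨a, ⟨m, hm⟩, rfl⟩ := IsLocalization.exists_mk'_eq (Submonoid.powers f) z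
    have h1 := IsLocalization.mk'_spec (Localization.Away f) a (⟨m, hm⟩ : Submonoid.powers f)
    have h2 := congrArg φ h1
    rw [map_mul, hz, zero_mul] at h2
    simp only [φ, IsLocalization.liftAlgHom_apply, IsLocalization.lift_eq] at h2
    have : a = 0 := Subtype.ext h2.symm
    rw [this, IsLocalization.mk'_zero]
  refine ⟨φ.range, ?_, ?_, ?_⟩
  · exact Algebra.FiniteType.equiv inferInstance (AlgEquiv.ofInjective φ hφ)
  · exact Algebra.Smooth.of_equiv (AlgEquiv.ofInjective φ hφ)
  · have hsub : (s : Set K) ⊆ φ.range := fun x hx =>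
      ⟨algebraMap A _ ⟨x, Algebra.subset_adjoin hx⟩, by simp [φ]⟩
    have h := isFractionRing_adjoin_of_closure R (s := (φ.range : Set K))
      (eq_top_iff.2 (hs ▸ Subfield.closure_mono hsub))
    rwa [Algebra.adjoin_eq] at h

end GrothLib.GenSmoothField
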